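import Groth.Prelude.Def_SchLoc
import Mathlib.AlgebraicGeometry.Morphisms.Immersion
import Mathlib.AlgebraicGeometry.Morphisms.OpenImmersion

/-! Basic facts about local immersions and local isomorphisms. -/

namespace Groth.Agent.SchLocBasic

open AlgebraicGeometry CategoryTheory CategoryTheory.Limits SchLoc

universe u

variable {X Y Z : Scheme.{u}} (f : X ⟶ Y)

lemma isLocalImmersionAt_iff (x : X) :
    IsLocalImmersionAt f x ↔ ∃ U : X.Opens, x ∈ U ∧ IsImmersion (U.ι ≫ f) := by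
  constructor
  · rintro ⟨U, V, h, hx, hc⟩
    refine ⟨U, hx, ?_⟩
    rw [← Scheme.Hom.resLE_comp_ι f h]
    infer_instance
  · rintro ⟨U, hx, hi⟩
    have h : U ≤ f ⁻¹ᵁ (U.ι ≫ f).coborderRange := fun y hy ↦
      subset_coborder ⟨⟨y, hy⟩, rfl⟩
    refine ⟨U, _, h, hx, ?_⟩
    have : f.resLE _ U h = (U.ι ≫ f).liftCoborder := by
      rw [← cancel_mono (U.ι ≫ f).coborderRange.ι, Scheme.Hom.resLE_comp_ι,
        Scheme.Hom.liftCoborder_ι]
    rw [this]
    infer_instance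

lemma isImmersion_ι_comp_of_le {U U' : X.Opens} (h : U' ≤ U) [IsImmersion (U.ι ≫ f)] :
    IsImmersion (U'.ι ≫ f) := by
  rw [← X.homOfLE_ι h, Category.assoc]
  infer_instance

lemma comp {f : X ⟶ Y} {g : Y ⟶ Z} (hf : IsLocalImmersion f) (hg : IsLocalImmersion g) :
    IsLocalImmersion (f ≫ g) := by
  intro x
  obtain ⟨U, hx, hU⟩ := (isLocalImmersionAt_iff f x).mp (hf x)
  obtain ⟨U', hx', hU'⟩ := (isLocalImmersionAt_iff g (f x)).mp (hg (f x))
  refine (isLocalImmersionAt_iff _ x).mpr ⟨U ⊓ f ⁻¹ᵁ U', ⟨hx, hx'⟩, ?_⟩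
  have h1 : IsImmersion ((U ⊓ f ⁻¹ᵁ U').ι ≫ f) := isImmersion_ι_comp_of_le f inf_le_left
  rw [← Scheme.Hom.resLE_comp_ι f (inf_le_right : U ⊓ f ⁻¹ᵁ U' ≤ f ⁻¹ᵁ U')] at h1
  have : IsImmersion (f.resLE U' (U ⊓ f ⁻¹ᵁ U') inf_le_right) := IsImmersion.of_comp _ U'.ι
  rw [← Category.assoc, ← Scheme.Hom.resLE_comp_ι f (inf_le_right : U ⊓ f ⁻¹ᵁ U' ≤ f ⁻¹ᵁ U'),
    Category.assoc]
  infer_instance

lemma of_comp {f : X ⟶ Y} {g : Y ⟶ Z} (h : IsLocalImmersion (f ≫ g)) :
    IsLocalImmersion f := by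
  intro x
  obtain ⟨U, hx, hU⟩ := (isLocalImmersionAt_iff _ x).mp (h x)
  refine (isLocalImmersionAt_iff f x).mpr ⟨U, hx, ?_⟩
  rw [← Category.assoc] at hU
  exact IsImmersion.of_comp _ g

lemma baseChange {S S' : Scheme.{u}} {f : X ⟶ S} (g : S' ⟶ S) (hf : IsLocalImmersion f) :
    IsLocalImmersion (pullback.snd f g) := by
  intro z
  obtain ⟨U, hx, hU⟩ := (isLocalImmersionAt_iff f _).mp (hf (pullback.fst f g z))
  refine (isLocalImmersionAt_iff _ z).mpr ⟨pullback.fst f g ⁻¹ᵁ U, hx, ?_⟩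
  have h1 := (isPullback_morphismRestrict (pullback.fst f g) U)
  have h2 := h1.flip.paste_horiz ((IsPullback.of_hasPullback f g).flip)
  exact MorphismProperty.of_isPullback (P := @IsImmersion) h2.flip hU

lemma isLocalImmersion_of_isLocalIso {f : X ⟶ Y} (hf : IsLocalIso f) : IsLocalImmersion f := by
  intro x
  obtain ⟨U, hx, hU⟩ := hf x
  exact (isLocalImmersionAt_iff f x).mpr ⟨U, hx, inferInstance⟩

/-- The closed immersion witnessing a local immersion, when the source is the whole preimage. -/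
lemma isClosedImmersion_morphismRestrict_of_preimage_eq {U : X.Opens} {V : Y.Opens}
    (h : U ≤ f ⁻¹ᵁ V) (e : f ⁻¹ᵁ V = U) [IsClosedImmersion (f.resLE V U h)] :
    IsClosedImmersion (f ∣_ V) := by
  subst e
  rwa [← Scheme.Hom.resLE_eq_morphismRestrict]

lemma isImmersion_of_preimage_eq
    (H : ∀ x : X, ∃ V : Y.Opens, f x ∈ V ∧ IsClosedImmersion (f ∣_ V)) : IsImmersion f := by
  choose V hV hc using H
  let W : Y.Opens := ⨆ x, V x
  have hW : f ⁻¹ᵁ W = ⊤ := by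
    ext x
    simpa [W] using ⟨x, hV x⟩
  have : IsClosedImmersion (f ∣_ W) := by
    refine IsZariskiLocalAtTarget.of_iSup_eq_top (P := @IsClosedImmersion)
      (fun x ↦ W.ι ⁻¹ᵁ V x) ?_ fun x ↦ ?_
    · rw [← Scheme.Hom.preimage_iSup]
      exact Scheme.Opens.ι_preimage_self W
    · exact (MorphismProperty.arrow_mk_iso_iff @IsClosedImmersion
        (morphismRestrictRestrict f W (W.ι ⁻¹ᵁ V x))).mpr
        ((MorphismProperty.arrow_mk_iso_iff @IsClosedImmersion
          (morphismRestrictEq f ((Scheme.Hom.image_preimage_eq_opensRange_inf W.ι (V x)).trans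
            (by simp [W, le_iSup V x])))).mpr (hc x))
  have h2 : IsImmersion ((f ∣_ W) ≫ W.ι) := inferInstance
  rw [morphismRestrict_ι] at h2
  have h3 : IsImmersion ((f ⁻¹ᵁ W).ι ≫ f) := h2
  rw [hW, ← Scheme.topIso_hom] at h3
  have h4 : IsImmersion (X.topIso.inv ≫ X.topIso.hom ≫ f) := inferInstance
  rwa [Iso.inv_hom_id_assoc] at h4

lemma mem_range_of_mem_closure {A : Scheme.{u}} {W : X.Opens} (g : A ⟶ W) [IsClosedImmersion g]
    {y : X} (hy : y ∈ W) (h : y ∈ closure (Set.range (g ≫ W.ι))) : y ∈ Set.range (g ≫ W.ι) := by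
  have e : Set.range (g ≫ W.ι) = W.ι '' Set.range g := by
    rw [← Set.range_comp]; rfl
  rw [e] at h ⊢
  obtain ⟨y', rfl⟩ : y ∈ Set.range W.ι := by rw [Scheme.Opens.range_ι]; exact hy
  have h' : y' ∈ closure (Set.range g) := by
    rw [W.ι.isEmbedding.isInducing.closure_eq_preimage_closure_image]
    exact h
  rw [g.isClosedEmbedding.isClosed_range.closure_eq] at h'
  exact ⟨y', h', rfl⟩

lemma preimage_eq_of_isSeparated [IrreducibleSpace X] [IsSeparated f] {U : X.Opens} {V : Y.Opens}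
    (h : U ≤ f ⁻¹ᵁ V) [hc : IsClosedImmersion (f.resLE V U h)] (hne : (U : Set X).Nonempty) :
    f ⁻¹ᵁ V = U := by
  have : IsClosedImmersion (X.homOfLE h ≫ (f ∣_ V)) := by
    have e : X.homOfLE h ≫ (f ∣_ V) = f.resLE V U h := rfl
    rw [e]; exact hc
  have : IsSeparated (f ∣_ V) := IsZariskiLocalAtTarget.restrict ‹_› V
  have hcl : IsClosedImmersion (X.homOfLE h) := IsClosedImmersion.of_comp _ (f ∣_ V)
  refine le_antisymm (fun y hy ↦ ?_) h
  have hd : y ∈ closure (Set.range (X.homOfLE h ≫ (f ⁻¹ᵁ V).ι)) := by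
    rw [X.homOfLE_ι h, Scheme.Opens.range_ι]
    exact U.isOpen.dense hne y
  have h' := mem_range_of_mem_closure (X.homOfLE h) hy hd
  rwa [X.homOfLE_ι h, Scheme.Opens.range_ι] at h'

lemma isImmersion_of_isSeparated [IrreducibleSpace X] [IsSeparated f] (hf : IsLocalImmersion f) :
    IsImmersion f := by
  refine isImmersion_of_preimage_eq f fun x ↦ ?_
  obtain ⟨U, V, h, hx, hc⟩ := hf x
  exact ⟨V, h hx, isClosedImmersion_morphismRestrict_of_preimage_eq f h
    (preimage_eq_of_isSeparated f h ⟨x, hx⟩)⟩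

lemma isOpenImmersion_of_isSeparated [IrreducibleSpace X] [IsSeparated f] (hf : IsLocalIso f) :
    IsOpenImmersion f := by
  have := isImmersion_of_isSeparated f (isLocalImmersion_of_isLocalIso hf)
  have hiso : ∀ x, IsIso (f.stalkMap x) := fun x ↦ by
    obtain ⟨U, hx, hU⟩ := hf x
    have h1 : IsIso (f.stalkMap (U.ι ⟨x, hx⟩) ≫ U.ι.stalkMap ⟨x, hx⟩) :=
      Scheme.Hom.stalkMap_comp U.ι f ⟨x, hx⟩ ▸
        (IsOpenImmersion.iff_isIso_stalkMap.mp hU).2 _
    have h2 : IsIso (U.ι.stalkMap ⟨x, hx⟩) :=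
      (IsOpenImmersion.iff_isIso_stalkMap.mp (inferInstance : IsOpenImmersion U.ι)).2 _
    exact IsIso.of_isIso_comp_right (f.stalkMap (U.ι ⟨x, hx⟩)) (U.ι.stalkMap ⟨x, hx⟩)
  have hopen : IsOpen (Set.range f) := by
    refine isOpen_iff_forall_mem_open.mpr ?_
    rintro _ ⟨x, rfl⟩
    obtain ⟨U, hx, hU⟩ := hf x
    exact ⟨Set.range (U.ι ≫ f), Set.range_comp_subset_range U.ι f, (U.ι ≫ f).isOpenEmbedding.isOpen_range,
      ⟨⟨x, hx⟩, rfl⟩⟩
  exact IsOpenImmersion.of_isIso_stalkMap f ⟨f.isEmbedding, hopen⟩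

lemma image_eq_of_isDominant [IrreducibleSpace X] [IsDominant f] {U : X.Opens} {V : Y.Opens}
    (h : U ≤ f ⁻¹ᵁ V) [IsClosedImmersion (f.resLE V U h)] (hne : (U : Set X).Nonempty) :
    f '' U = V := by
  refine subset_antisymm (Set.image_subset_iff.mpr h) fun y hy ↦ ?_
  have e : Set.range (U.ι ≫ f) = f '' U := by
    rw [← Scheme.Opens.range_ι U, ← Set.range_comp]; rfl
  have hd : y ∈ closure (Set.range (f.resLE V U h ≫ V.ι)) := by
    rw [Scheme.Hom.resLE_comp_ι, e]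
    exact DenseRange.dense_image f.denseRange f.continuous (U.isOpen.dense hne) y
  have h' := mem_range_of_mem_closure (f.resLE V U h) hy hd
  rwa [Scheme.Hom.resLE_comp_ι, e] at h'

lemma isImmersion_and_isOpen_range [IrreducibleSpace X] [IsDominant f]
    (hf : IsLocalImmersion f) (hi : Function.Injective f) :
    IsImmersion f ∧ IsOpen (Set.range f) := by
  constructor
  · refine isImmersion_of_preimage_eq f fun x ↦ ?_
    obtain ⟨U, V, h, hx, hc⟩ := hf x
    refine ⟨V, h hx, isClosedImmersion_morphismRestrict_of_preimage_eq f h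
      (le_antisymm (fun y hy ↦ ?_) h)⟩
    obtain ⟨a, ha, hay⟩ := (image_eq_of_isDominant f h ⟨x, hx⟩).symm ▸ (show f y ∈ (V : Set Y) from hy)
    exact hi hay ▸ ha
  · refine isOpen_iff_forall_mem_open.mpr ?_
    rintro _ ⟨x, rfl⟩
    obtain ⟨U, V, h, hx, hc⟩ := hf x
    exact ⟨V, (image_eq_of_isDominant f h ⟨x, hx⟩) ▸ Set.image_subset_range _ _, V.isOpen, h hx⟩

end Groth.Agent.SchLocBasic
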